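import Mathlib

/-!
# The Frobenius-type averaging identity

`W` acts by automorphisms on the commutative group `V`; `R ≤ W` is a finite subgroup normalized by
`y`, and the powers `y ^ i`, `0 < i < m`, act without nontrivial fixed points on `R`.  Writing
`T = ∑_{i<m} y^i` and `S = ∑_{x∈R} x`, one has `∑_{c∈R} c T c⁻¹ = |R| + S * ∑_{0<i<m} y^i`.
-/

set_option autoImplicit false

namespace Cfsg.Agent.Lib.FrobId

section id

variable {W V : Type*} [Group W] [CommGroup V] [MulDistribMulAction W V]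

/-- `T v = ∏_{i<m} y^i • v`. -/
def cyc (y : W) (m : ℕ) (v : V) : V := ∏ i ∈ Finset.range m, (y ^ i) • v

/-- `S v = ∏_{x∈R} x • v`. -/
def orb (R : Subgroup W) [Fintype R] (v : V) : V := ∏ x : R, (x : W) • v

lemma smul_finset_prod {ι : Type*} (g : W) (s : Finset ι) (f : ι → V) :
    g • ∏ i ∈ s, f i = ∏ i ∈ s, g • f i :=
  map_prod (MulDistribMulAction.toMonoidHom V g) f s

lemma cyc_fixed (y : W) (m : ℕ) (hm : y ^ m = 1) (v : V) : y • cyc y m v = cyc y m v := by
  unfold cyc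
  rw [smul_finset_prod]
  have h1 := Finset.prod_range_succ' (fun i => (y ^ i) • v) m
  have h2 := Finset.prod_range_succ (fun i => (y ^ i) • v) m
  rw [h2, hm, pow_zero] at h1
  have h3 : ∏ i ∈ Finset.range m, y • (y ^ i) • v = ∏ i ∈ Finset.range m, (y ^ (i + 1)) • v := by
    refine Finset.prod_congr rfl fun i _ => ?_
    rw [smul_smul, pow_succ']
  rw [h3]
  exact (mul_right_cancel h1).symm

lemma orb_fixed (R : Subgroup W) [Fintype R] (x : W) (hx : x ∈ R) (v : V) : x • orb R v = orb R v := by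
  unfold orb
  rw [smul_finset_prod]
  simp_rw [smul_smul]
  exact Fintype.prod_equiv (Equiv.mulLeft (⟨x, hx⟩ : R))
    (fun c => (x * (c : W)) • v) (fun c => (c : W) • v) (fun c => rfl)

/-- The identity. -/
theorem prod_conj_identity (R : Subgroup W) [Fintype R] (y : W) (m : ℕ) (hmpos : 0 < m)
    (hy : ∀ c ∈ R, y * c * y⁻¹ ∈ R)
    (hfpf : ∀ i, 0 < i → i < m → ∀ c ∈ R, Commute c (y ^ i) → c = 1) (v : V) :
    ∏ c : R, (c : W) • cyc y m ((c : W)⁻¹ • v)
      = v ^ Fintype.card R * ∏ i ∈ Finset.Ico 1 m, orb R ((y ^ i) • v) := by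
  classical
  have hyi : ∀ i : ℕ, ∀ c ∈ R, y ^ i * c * (y ^ i)⁻¹ ∈ R := by
    intro i
    induction i with
    | zero => intro c hc; simpa using hc
    | succ i ih =>
      intro c hc
      have h1 := hy _ (ih c hc)
      have h2 : y * (y ^ i * c * (y ^ i)⁻¹) * y⁻¹ = y ^ (i + 1) * c * (y ^ (i + 1))⁻¹ := by
        rw [pow_succ']; group
      rwa [h2] at h1
  have h1 : ∀ c : R, (c : W) • cyc y m ((c : W)⁻¹ • v)
      = ∏ i ∈ Finset.range m, ((c : W) * y ^ i * (c : W)⁻¹) • v := by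
    intro c
    unfold cyc
    rw [smul_finset_prod]
    refine Finset.prod_congr rfl fun i _ => ?_
    rw [smul_smul, smul_smul, mul_assoc]
  simp_rw [h1]
  rw [Finset.prod_comm, Finset.range_eq_Ico, Finset.prod_eq_prod_Ico_succ_bot hmpos]
  congr 1
  · simp
  · refine Finset.prod_congr rfl fun i hi => ?_
    rw [Finset.mem_Ico] at hi
    -- the map `c ↦ c y^i c⁻¹ y^{-i}`
    let φ : R → R := fun c => ⟨(c : W) * (y ^ i * (c : W)⁻¹ * (y ^ i)⁻¹),
      R.mul_mem c.2 (hyi i _ (R.inv_mem c.2))⟩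
    have hφ : Function.Injective φ := by
      intro c d hcd
      have h2 : (c : W) * (y ^ i * (c : W)⁻¹ * (y ^ i)⁻¹) = (d : W) * (y ^ i * (d : W)⁻¹ * (y ^ i)⁻¹) :=
        congrArg Subtype.val hcd
      have h3 : Commute ((d : W)⁻¹ * c) (y ^ i) := by
        show ((d : W)⁻¹ * c) * y ^ i = y ^ i * ((d : W)⁻¹ * c)
        have h4 : (d : W)⁻¹ * (c : W) * y ^ i = y ^ i * ((d : W)⁻¹ * c) := by
          have h5 : (d : W)⁻¹ * ((c : W) * (y ^ i * (c : W)⁻¹ * (y ^ i)⁻¹)) * y ^ i * (c : W)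
              = (d : W)⁻¹ * ((d : W) * (y ^ i * (d : W)⁻¹ * (y ^ i)⁻¹)) * y ^ i * (c : W) := by
            rw [h2]
          have e1 : (d : W)⁻¹ * ((c : W) * (y ^ i * (c : W)⁻¹ * (y ^ i)⁻¹)) * y ^ i * (c : W)
              = (d : W)⁻¹ * c * y ^ i := by group
          have e2 : (d : W)⁻¹ * ((d : W) * (y ^ i * (d : W)⁻¹ * (y ^ i)⁻¹)) * y ^ i * (c : W)
              = y ^ i * ((d : W)⁻¹ * c) := by group
          rw [e1, e2] at h5
          exact h5
        exact h4
      have h6 := hfpf i (by omega) hi.2 ((d : W)⁻¹ * c) (R.mul_mem (R.inv_mem d.2) c.2) h3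
      apply Subtype.ext
      have : (d : W)⁻¹ * c = 1 := h6
      exact (inv_mul_eq_one.1 this).symm
    have hφb : Function.Bijective φ := hφ.bijective_of_finite
    unfold orb
    rw [← hφb.prod_comp (fun x : R => (x : W) • ((y ^ i) • v))]
    refine Finset.prod_congr rfl fun c _ => ?_
    rw [smul_smul]
    congr 1
    show _ = (c : W) * (y ^ i * (c : W)⁻¹ * (y ^ i)⁻¹) * y ^ i
    group

/-- Conclusion in the form used for the prime graph lemmas: if both `T` and `S` vanish on `V`, then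
`|R|` kills `V`. -/
theorem pow_card_eq_one (R : Subgroup W) [Fintype R] (y : W) (m : ℕ) (hmpos : 0 < m)
    (hy : ∀ c ∈ R, y * c * y⁻¹ ∈ R)
    (hfpf : ∀ i, 0 < i → i < m → ∀ c ∈ R, Commute c (y ^ i) → c = 1)
    (hT : ∀ u : V, cyc y m u = 1) (hS : ∀ u : V, orb R u = 1) (v : V) :
    v ^ Fintype.card R = 1 := by
  have h := prod_conj_identity R y m hmpos hy hfpf v
  simp only [hT, hS, smul_one, Finset.prod_const_one, mul_one] at h
  exact h.symm

/-- If `y` and the nontrivial subgroup `R` act fixed-point-freely on `V` and the nontrivial powers of `y`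
act fixed-point-freely on `R`, then `|R|` kills `V`. -/
theorem pow_card_eq_one_of_fpf (R : Subgroup W) [Finite R] (hRne : R ≠ ⊥) (y : W) (m : ℕ) (hmpos : 0 < m)
    (hmy : y ^ m = 1) (hy : ∀ c ∈ R, y * c * y⁻¹ ∈ R)
    (hfpf : ∀ i, 0 < i → i < m → ∀ c ∈ R, Commute c (y ^ i) → c = 1)
    (hyV : ∀ v : V, y • v = v → v = 1) (hRV : ∀ v : V, ∀ c ∈ R, c ≠ 1 → c • v = v → v = 1) (v : V) :
    v ^ Nat.card R = 1 := by
  classical
  letI := Fintype.ofFinite R
  rw [Nat.card_eq_fintype_card]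
  obtain ⟨c, hc, hc1⟩ := (Subgroup.ne_bot_iff_exists_ne_one.1 hRne).imp (fun c hc => hc) |>.elim
    (fun c hc => (⟨c.1, c.2, fun h => hc (Subtype.ext h)⟩ : ∃ c ∈ R, c ≠ (1 : W)))
  exact pow_card_eq_one R y m hmpos hy hfpf (fun u => hyV _ (cyc_fixed y m hmy u))
    (fun u => hRV _ c hc hc1 (orb_fixed R c hc u)) v

end id

section orders

variable {G : Type*} [Group G]

/-- Commuting elements with orders divisible by distinct primes yield an element of order `pq`. -/
lemma exists_orderOf_mul_of_commute {x y : G} {p q : ℕ} (hp : p.Prime) (hq : q.Prime) (hpq : p ≠ q)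
    (hxo : 0 < orderOf x) (hyo : 0 < orderOf y)
    (hx : p ∣ orderOf x) (hy : q ∣ orderOf y) (hc : Commute x y) :
    ∃ z : G, orderOf z = p * q := by
  have h1 : orderOf (x ^ (orderOf x / p)) = p := orderOf_pow_orderOf_div hxo.ne' hx
  have h2 : orderOf (y ^ (orderOf y / q)) = q := orderOf_pow_orderOf_div hyo.ne' hy
  have hc' : Commute (x ^ (orderOf x / p)) (y ^ (orderOf y / q)) := hc.pow_pow _ _
  refine ⟨x ^ (orderOf x / p) * y ^ (orderOf y / q), ?_⟩
  rw [hc'.orderOf_mul_eq_mul_orderOf_of_coprime (by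
    rw [h1, h2]; exact (Nat.coprime_primes hp hq).2 hpq), h1, h2]

end orders

end Cfsg.Agent.Lib.FrobId
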